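import Cfsg.Agent.JankoThree.Mult.Defs

/-! Generated: checks, part 0. -/

set_option autoImplicit false
set_option Elab.async false
set_option maxRecDepth 100000

namespace Cfsg.Agent.JankoThree.Mult

open Cfsg.Agent.CosetCert

theorem edge_at0 : allFrom edgeB 0 2500 = true := by decide +kernel

theorem edge_at2500 : allFrom edgeB 2500 2500 = true := by decide +kernel

theorem edge_at5000 : allFrom edgeB 5000 2500 = true := by decide +kernel

theorem edge_at7500 : allFrom edgeB 7500 2500 = true := by decide +kernel

theorem edge_at10000 : allFrom edgeB 10000 2500 = true := by decide +kernel

theorem edge_at12500 : allFrom edgeB 12500 2500 = true := by decide +kernel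

theorem edge_at15000 : allFrom edgeB 15000 2500 = true := by decide +kernel

theorem edge_at17500 : allFrom edgeB 17500 2500 = true := by decide +kernel

theorem edge_at20000 : allFrom edgeB 20000 2500 = true := by decide +kernel

theorem edge_at22500 : allFrom edgeB 22500 2124 = true := by decide +kernel


end Cfsg.Agent.JankoThree.Mult
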