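import Cfsg.Agent.JankoThree.Mult.Defs

/-! Generated: checks, part 1. -/

set_option autoImplicit false
set_option Elab.async false
set_option maxRecDepth 100000

namespace Cfsg.Agent.JankoThree.Mult

open Cfsg.Agent.CosetCert

theorem back_at0 : allFrom backB 0 8000 = true := by decide +kernel

theorem back_at8000 : allFrom backB 8000 8000 = true := by decide +kernel

theorem back_at16000 : allFrom backB 16000 8000 = true := by decide +kernel

theorem back_at24000 : allFrom backB 24000 624 = true := by decide +kernel

theorem trans_at0 : allFrom transB 0 3000 = true := by decide +kernel

theorem trans_at3000 : allFrom transB 3000 3000 = true := by decide +kernel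

theorem trans_at6000 : allFrom transB 6000 3000 = true := by decide +kernel

theorem trans_at9000 : allFrom transB 9000 3000 = true := by decide +kernel

theorem trans_at12000 : allFrom transB 12000 312 = true := by decide +kernel

theorem subg_at0 : allFrom subB' 0 2100 = true := by decide +kernel

theorem subg_at2100 : allFrom subB' 2100 1980 = true := by decide +kernel


end Cfsg.Agent.JankoThree.Mult
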