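import Cfsg.Agent.JankoThree.Mult.Defs

/-! Generated: checks, part 2. -/

set_option autoImplicit false
set_option Elab.async false
set_option maxRecDepth 100000

namespace Cfsg.Agent.JankoThree.Mult

open Cfsg.Agent.CosetCert

theorem var_at0 : allFrom cert.varB 0 2500 = true := by decide +kernel

theorem var_at2500 : allFrom cert.varB 2500 2500 = true := by decide +kernel

theorem var_at5000 : allFrom cert.varB 5000 2500 = true := by decide +kernel

theorem var_at7500 : allFrom cert.varB 7500 2500 = true := by decide +kernel

theorem var_at10000 : allFrom cert.varB 10000 2500 = true := by decide +kernel

theorem var_at12500 : allFrom cert.varB 12500 2500 = true := by decide +kernel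

theorem var_at15000 : allFrom cert.varB 15000 2500 = true := by decide +kernel

theorem var_at17500 : allFrom cert.varB 17500 2500 = true := by decide +kernel

theorem var_at20000 : allFrom cert.varB 20000 2500 = true := by decide +kernel

theorem var_at22500 : allFrom cert.varB 22500 2124 = true := by decide +kernel


end Cfsg.Agent.JankoThree.Mult
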