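import Cfsg.Agent.JankoThree.Mult.Check0
import Cfsg.Agent.JankoThree.Mult.Check1
import Cfsg.Agent.JankoThree.Mult.Check2

/-! Generated: kernel checks combined. -/

set_option autoImplicit false
set_option Elab.async false
set_option maxRecDepth 100000

namespace Cfsg.Agent.JankoThree.Mult

open Cfsg.Agent.CosetCert

theorem edge_ok : ∀ i, i < 24624 → edgeB i = true := by
  have h0 : ∀ i, i < 0 → edgeB i = true := forall_lt_zero
  have h1 := forall_lt_step (b := 2500) h0 edge_at0 rfl
  have h2 := forall_lt_step (b := 5000) h1 edge_at2500 rfl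
  have h3 := forall_lt_step (b := 7500) h2 edge_at5000 rfl
  have h4 := forall_lt_step (b := 10000) h3 edge_at7500 rfl
  have h5 := forall_lt_step (b := 12500) h4 edge_at10000 rfl
  have h6 := forall_lt_step (b := 15000) h5 edge_at12500 rfl
  have h7 := forall_lt_step (b := 17500) h6 edge_at15000 rfl
  have h8 := forall_lt_step (b := 20000) h7 edge_at17500 rfl
  have h9 := forall_lt_step (b := 22500) h8 edge_at20000 rfl
  have h10 := forall_lt_step (b := 24624) h9 edge_at22500 rfl
  exact h10

theorem back_ok : ∀ i, i < 24624 → backB i = true := by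
  have h0 : ∀ i, i < 0 → backB i = true := forall_lt_zero
  have h1 := forall_lt_step (b := 8000) h0 back_at0 rfl
  have h2 := forall_lt_step (b := 16000) h1 back_at8000 rfl
  have h3 := forall_lt_step (b := 24000) h2 back_at16000 rfl
  have h4 := forall_lt_step (b := 24624) h3 back_at24000 rfl
  exact h4

theorem trans_ok : ∀ i, i < 12312 → transB i = true := by
  have h0 : ∀ i, i < 0 → transB i = true := forall_lt_zero
  have h1 := forall_lt_step (b := 3000) h0 trans_at0 rfl
  have h2 := forall_lt_step (b := 6000) h1 trans_at3000 rfl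
  have h3 := forall_lt_step (b := 9000) h2 trans_at6000 rfl
  have h4 := forall_lt_step (b := 12000) h3 trans_at9000 rfl
  have h5 := forall_lt_step (b := 12312) h4 trans_at12000 rfl
  exact h5

theorem subg_ok : ∀ i, i < 4080 → subB' i = true := by
  have h0 : ∀ i, i < 0 → subB' i = true := forall_lt_zero
  have h1 := forall_lt_step (b := 2100) h0 subg_at0 rfl
  have h2 := forall_lt_step (b := 4080) h1 subg_at2100 rfl
  exact h2

theorem var_ok : ∀ i, i < 24624 → cert.varB i = true := by
  have h0 : ∀ i, i < 0 → cert.varB i = true := forall_lt_zero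
  have h1 := forall_lt_step (b := 2500) h0 var_at0 rfl
  have h2 := forall_lt_step (b := 5000) h1 var_at2500 rfl
  have h3 := forall_lt_step (b := 7500) h2 var_at5000 rfl
  have h4 := forall_lt_step (b := 10000) h3 var_at7500 rfl
  have h5 := forall_lt_step (b := 12500) h4 var_at10000 rfl
  have h6 := forall_lt_step (b := 15000) h5 var_at12500 rfl
  have h7 := forall_lt_step (b := 17500) h6 var_at15000 rfl
  have h8 := forall_lt_step (b := 20000) h7 var_at17500 rfl
  have h9 := forall_lt_step (b := 22500) h8 var_at20000 rfl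
  have h10 := forall_lt_step (b := 24624) h9 var_at22500 rfl
  exact h10

theorem checked : span.Checked cert where
  d_eq := by decide +kernel
  n_pos := by decide +kernel
  K_pos := by decide +kernel
  relsLen := by decide +kernel
  relsLt := by decide +kernel
  free_lt := by decide +kernel
  zero_lt := by decide +kernel
  u_lt := by decide +kernel
  tree := fun c hc => (allFrom_iff cert.treeB 0 12312).1 (by decide +kernel) c (Nat.zero_le c) (by rw [Nat.zero_add]; exact hc)
  var := var_ok
  row := List.all_eq_true.1 (by decide +kernel : cert.rows.all cert.rowB = true)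
  field := fun c hc => (allFrom_iff (span.fieldB cert) 0 43).1 (by decide +kernel) c (Nat.zero_le c) (by rw [Nat.zero_add]; exact hc)
  top := by decide +kernel

theorem words_ok : (Nat.beq genA Cfsg.Agent.JankoThree.C0.g1 &&
    Nat.beq genB (sh (ev Cfsg.Agent.JankoThree.C0.g0 Cfsg.Agent.JankoThree.C0.g1 wordB.1) wordB.2) &&
    Nat.beq Cfsg.Agent.JankoThree.C0.g0 (sh (ev genA genB wordG.1) wordG.2) &&
    Nat.beq subA (sh (ev genA genB wordSubA.1) wordSubA.2) &&
    Nat.beq subB (sh (ev genA genB wordSubB.1) wordSubB.2)) = true := by decide +kernel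

theorem rels_ok : cert.rels.all (fun w => scalB (evS w)) = true := by decide +kernel

theorem orders_ok : (Nat.beq (mmul genA genA) idM && Nat.beq (mmul genB (mmul genB genB)) idM) = true := by
  decide +kernel

theorem four_ok : allFrom fourB 0 256 = true ∧ allFrom torusB 0 4 = true ∧
    mmul (el (eIdx.getD 0 0)) (el (eIdx.getD 1 0)) = el (eIdx.getD 4 0) := by decide +kernel

theorem four_idx : vIdx.Nodup ∧ (∀ k ∈ vIdx, k < 4080) ∧ vIdx.length = 16 ∧
    vIdx.getD 0 0 = 0 ∧ (∀ j < 4, vIdx.getD (2 ^ j) 0 = eIdx.getD j 0) ∧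
    (∀ j < 5, eIdx.getD j 0 < 4080) ∧ tIdx < 4080 := by decide +kernel

theorem primes_ok : pIdx.all (fun e => Nat.blt 0 e.2 && Nat.blt e.2 4080 &&
    Nat.beq (Nat.rec (motive := fun _ => Nat) Cfsg.Agent.JankoThree.idM
      (fun _ r => Cfsg.Agent.JankoThree.mmul (el e.2) r) e.1) Cfsg.Agent.JankoThree.idM) = true := by decide +kernel

end Cfsg.Agent.JankoThree.Mult
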