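import Cfsg.Agent.JankoThree.Mult.Data
import Cfsg.Agent.JankoThree.Group

/-!
Checks on codes: the action on the cosets of a subgroup of order 4080 and the shape of its Sylow subgroups.
-/

set_option autoImplicit false

namespace Cfsg.Agent.JankoThree.Mult

open Cfsg.Agent.CosetCert (force get48 Store)

/-- A code times a power of the scalar. -/
noncomputable def sh (A s : ℕ) : ℕ := cond (Nat.beq s 0) A (cond (Nat.beq s 1) (wvM A) (wvM (wvM A)))

/-- A letter. -/
noncomputable def gen (x : ℕ) : ℕ := cond (Nat.beq x 0) genA genB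

/-- The value of a word. -/
noncomputable def ev (g h : ℕ) (w : List ℕ) : ℕ :=
  List.rec (motive := fun _ => ℕ) idM (fun a _ r => mmul (cond (Nat.beq a 0) g h) r) w

/-- The value of a signed word. -/
noncomputable def evS (w : List (ℕ × Bool)) : ℕ :=
  List.rec (motive := fun _ => ℕ) idM
    (fun a _ r => mmul (cond a.2 (gen a.1) (cond (Nat.beq a.1 0) genA (mmul genB genB))) r) w

/-- The code is a scalar. -/
noncomputable def scalB (A : ℕ) : Bool :=
  Nat.beq A idM || (Nat.beq A scalM || Nat.beq A (wvM scalM))

/-- The transversal. -/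
noncomputable abbrev tr (c : ℕ) : ℕ := transStore.get c

/-- The elements of the subgroup. -/
noncomputable abbrev el (k : ℕ) : ℕ := subStore.get k

/-- An edge is correct. -/
noncomputable def edgeB (i : ℕ) : Bool :=
  force (get48 edgeStore i) fun e =>
    Nat.blt (e / 12240) 12312 &&
    Nat.beq (mmul (tr (i / 2)) (gen (i % 2)))
      (sh (mmul (el (e % 12240 / 3)) (tr (e / 12240))) (e % 3))

/-- An inverse edge is correct. -/
noncomputable def backB (i : ℕ) : Bool :=
  force (btab (i / 2) (i % 2)) fun b => Nat.blt b 12312 && Nat.beq (tab b (i % 2)) (i / 2)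

/-- A point is reached. -/
noncomputable def transB (c : ℕ) : Bool :=
  force (get48 parStore c) fun p => cond (Nat.beq c 0) (Nat.beq (tr c) idM)
    (Nat.blt (p / 2) c && Nat.beq (tr c) (mmul (tr (p / 2)) (gen (p % 2))))

/-- A row of the subgroup is correct. -/
noncomputable def subB' (k : ℕ) : Bool :=
  force (get48 hedgeStore (2 * k)) fun a => force (get48 hedgeStore (2 * k + 1)) fun b =>
    Nat.blt a 4080 && Nat.beq (mmul subA (el k)) (el a) &&
    Nat.blt b 4080 && Nat.beq (mmul subB (el k)) (el b) &&
    force (get48 hparStore k) fun p => cond (Nat.beq k 0) (Nat.beq (el k) idM)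
      (Nat.blt (p / 2) k && Nat.beq (el k) (mmul (cond (Nat.beq (p % 2) 0) subA subB) (el (p / 2))))

/-- The products inside the elementary subgroup. -/
noncomputable def fourB (i : ℕ) : Bool :=
  Nat.beq (mmul (el (vIdx.getD (i / 16) 0)) (el (vIdx.getD (i % 16) 0)))
    (el (vIdx.getD (Nat.xor (i / 16) (i % 16)) 0))

/-- The relations with the torus element. -/
noncomputable def torusB (i : ℕ) : Bool :=
  Nat.beq (mmul (el tIdx) (el (eIdx.getD i 0))) (mmul (el (eIdx.getD (i + 1) 0)) (el tIdx))

end Cfsg.Agent.JankoThree.Mult
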