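import Cfsg.Agent.JankoThree.Mult.Sylow
import Cfsg.Agent.JankoThree.Simple
import Cfsg.Agent.ProjExt.Stem
import Cfsg.Agent.StemCert.Split

/-!
The multiplier of the central quotient of `threeJ3` is cyclic of order three.
-/

set_option autoImplicit false

namespace Cfsg.Agent.JankoThree.Mult

open Cfsg.Spor (F9)
open Cfsg.Agent.CocycleCert (evalS evalS_cons map_evalS)
open scoped commutatorElement

universe u

variable {F : Type u} [Field F] [Fintype F] {ω : F}

/-- The exponent sum of a letter. -/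
def expSum (x : ℕ) (w : List (ℕ × Bool)) : ℤ :=
  w.foldr (fun a r => (if a.1 = x then (if a.2 then 1 else -1) else 0) + r) 0

theorem tprodSum_eq {A : Type*} [CommGroup A] (c : ℕ → A) : ∀ w : List (ℕ × Bool), (∀ a ∈ w, a.1 < 2) →
    CocycleCert.tprod c w = c 0 ^ expSum 0 w * c 1 ^ expSum 1 w
  | [], _ => by simp [CocycleCert.tprod, evalS, expSum]
  | (x, s) :: w, h => by
    have hx : x < 2 := h (x, s) (by simp)
    have ih := tprodSum_eq c w fun a ha => h a (by simp [ha])
    simp only [CocycleCert.tprod] at ih ⊢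
    rw [evalS_cons, ih]
    interval_cases x <;> cases s <;>
      simp only [expSum, List.foldr_cons, cond_false, cond_true, zpow_add, if_true, if_false,
        Bool.false_eq_true, one_ne_zero, zero_ne_one, zpow_one, zpow_neg_one, zpow_zero, one_mul] <;>
      ac_rfl

theorem evalS_shift {Γ : Type*} [Group Γ] (K : Subgroup Γ) [IsMulCommutative K] (hK : K ≤ Subgroup.center Γ)
    (l : ℕ → Γ) (c : ℕ → K) : ∀ w : List (ℕ × Bool),
    evalS (fun x => l x * (c x : Γ)) w = evalS l w * ((evalS c w : K) : Γ)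
  | [] => by simp [evalS]
  | (x, s) :: w => by
    have hc : ∀ (y : K) (g : Γ), (y : Γ) * g = g * y := fun y g => (Subgroup.mem_center_iff.mp (hK y.2) g).symm
    rw [evalS_cons, evalS_cons, evalS_cons, evalS_shift K hK l c w]
    cases s
    · simp only [cond_false, mul_inv_rev, Subgroup.coe_mul, Subgroup.coe_inv]
      have h1 := hc (c x)⁻¹ ((l x)⁻¹ * evalS l w)
      rw [Subgroup.coe_inv] at h1
      calc (c x : Γ)⁻¹ * (l x)⁻¹ * (evalS l w * ((evalS c w : K) : Γ))
          = (c x : Γ)⁻¹ * ((l x)⁻¹ * evalS l w) * ((evalS c w : K) : Γ) := by group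
        _ = _ := by rw [h1]; group
    · simp only [cond_true, Subgroup.coe_mul]
      calc l x * (c x : Γ) * (evalS l w * ((evalS c w : K) : Γ))
          = l x * ((c x : Γ) * evalS l w) * ((evalS c w : K) : Γ) := by group
        _ = _ := by rw [hc]; group

variable (hr : Root F ω)
include hr

theorem rep_evS (Q : Els ω) : ∀ w : List (ℕ × Bool), (∀ a ∈ w, a.1 < 2) → Rep (evalS Q.g w) (evS w)
  | [], _ => rep_one
  | (x, s) :: w, h => by
    have hx : x < 2 := h (x, s) (by simp)
    rw [evalS_cons]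
    refine Rep.mul hr ?_ (rep_evS Q w fun a ha => h a (by simp [ha]))
    interval_cases x <;> cases s
    · show Rep (Q.g 0)⁻¹ genA
      rw [inv_eq_of_mul_eq_one_right Q.g_sq]
      exact Q.g_rep 0
    · exact Q.g_rep 0
    · show Rep (Q.g 1)⁻¹ (mmul genB genB)
      rw [inv_eq_of_mul_eq_one_right Q.g_cube]
      exact (Q.g_rep 1).mul hr (Q.g_rep 1)
    · exact Q.g_rep 1

theorem evalS_rel (Q : Els ω) : ∀ w ∈ cert.rels, evalS Q.g w = 1 := fun w hw =>
  (rep_evS hr Q w (checked.relsLt w hw)).eq_one hr (List.all_eq_true.mp rels_ok w hw)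

/-- The kernel of a stem extension is cyclic of order dividing three. -/
theorem ker_cyclic (Q : Els ω) {Γ : Type u} [Group Γ] [Finite Γ] (σ : Γ →* Spor.J3 F ω)
    (hσ : Cfsg.IsStemExtension σ) : ∃ z ∈ σ.ker, σ.ker ≤ Subgroup.zpowers z ∧ z ^ 3 = 1 := by
  classical
  obtain ⟨hsurj, hker, hcomm⟩ := hσ
  obtain ⟨-, -, φ, hT, hB, hS⟩ := Q.exists_action hr
  have : IsMulCommutative σ.ker :=
    ⟨⟨fun a b => Subtype.ext (Subgroup.mem_center_iff.mp (hker b.2) a)⟩⟩
  let : CommGroup σ.ker := IsMulCommutative.instCommGroup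
  let l0 : ℕ → Γ := fun x => Function.surjInv hsurj (Q.g x)
  have hl0 : ∀ x, σ (l0 x) = Q.g x := fun x => Function.surjInv_eq hsurj _
  have hz : ∀ k < cert.nr, evalS l0 (cert.rels.getD k []) ∈ σ.ker := fun k hk => by
    rw [MonoidHom.mem_ker, map_evalS, show (fun x => σ (l0 x)) = Q.g from funext hl0]
    refine evalS_rel hr Q _ ?_
    rw [CocycleCert.nr_eq] at hk
    rw [List.getD_eq_getElem _ _ hk]
    exact List.getElem_mem hk
  obtain ⟨j, j', hjj, hj, hj', e0, e1, e0', e1'⟩ : ∃ j j', span.zero = [j, j'] ∧ j < cert.nr ∧ j' < cert.nr ∧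
      expSum 0 (cert.rels.getD j []) = 1 ∧ expSum 1 (cert.rels.getD j []) = 1 ∧
      expSum 0 (cert.rels.getD j' []) = 0 ∧ expSum 1 (cert.rels.getD j' []) = -1 :=
    ⟨19, 20, by decide +kernel⟩
  let y : σ.ker := ⟨_, hz j hj⟩
  let y' : σ.ker := ⟨_, hz j' hj'⟩
  let c : ℕ → σ.ker := fun x => if x = 0 then (y * y')⁻¹ else y'
  let l : ℕ → Γ := fun x => l0 x * (c x : Γ)
  have hl : ∀ x, σ (l x) = Q.g x := fun x => by
    rw [map_mul, MonoidHom.mem_ker.mp (c x).2, hl0, mul_one]
  have hlt : ∀ k < cert.nr, ∀ a ∈ cert.rels.getD k [], a.1 < 2 := fun k hk => by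
    refine checked.relsLt _ ?_
    rw [CocycleCert.nr_eq] at hk
    rw [List.getD_eq_getElem _ _ hk]
    exact List.getElem_mem hk
  have hzero : ∀ k ∈ span.zero, evalS l (cert.rels.getD k []) = 1 := by
    intro k hk
    rw [hjj] at hk
    have hone : ∀ k (hk : k < cert.nr), (⟨_, hz k hk⟩ : σ.ker) * CocycleCert.tprod c (cert.rels.getD k []) = 1 →
        evalS l (cert.rels.getD k []) = 1 := fun k hk h => by
      rw [show evalS l _ = _ from evalS_shift σ.ker hker l0 c _]
      exact congrArg Subtype.val h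
    rcases List.mem_pair.mp hk with rfl | rfl
    · refine hone _ hj ?_
      rw [tprodSum_eq c _ (hlt _ hj), e0, e1, zpow_one, zpow_one]
      show y * ((y * y')⁻¹ * y') = 1
      rw [mul_inv_rev, mul_assoc, inv_mul_cancel_comm_assoc, mul_inv_cancel]
    · refine hone _ hj' ?_
      rw [tprodSum_eq c _ (hlt _ hj'), e0', e1', zpow_zero, one_mul, zpow_neg_one]
      exact mul_inv_cancel y'
  have hgen : Subgroup.closure {e | ∃ x < cert.K, l x = e} = ⊤ := by
    set H := Subgroup.closure {e | ∃ x < cert.K, l x = e}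
    have hH : ∀ a : Γ, ∃ h ∈ H, h⁻¹ * a ∈ Subgroup.center Γ := by
      intro a
      have ha : σ a ∈ H.map σ := by
        refine (?_ : Subgroup.closure ({Q.g 0, Q.g 1} : Set (Spor.J3 F ω)) ≤ H.map σ) (Q.g_gen ▸ Subgroup.mem_top _)
        rw [Subgroup.closure_le]
        rintro x (rfl | rfl)
        · exact ⟨l 0, Subgroup.subset_closure ⟨0, Nat.two_pos, rfl⟩, hl 0⟩
        · exact ⟨l 1, Subgroup.subset_closure ⟨1, Nat.one_lt_two, rfl⟩, hl 1⟩
      obtain ⟨h, hh, e⟩ := Subgroup.mem_map.mp ha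
      exact ⟨h, hh, hker (by rw [MonoidHom.mem_ker, map_mul, map_inv, e, inv_mul_cancel])⟩
    have hc : commutator Γ ≤ H := by
      rw [commutator_def, Subgroup.commutator_le]
      intro a _ b _
      obtain ⟨h, hh, hha⟩ := hH a
      obtain ⟨h', hh', hhb⟩ := hH b
      rw [show a = h * (h⁻¹ * a) by group, show b = h' * (h'⁻¹ * b) by group,
        StemCert.commutator_mul_central _ _ hha hhb]
      exact mul_mem (mul_mem (mul_mem hh hh') (inv_mem hh)) (inv_mem hh')
    rw [eq_top_iff]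
    intro a _
    have ha : σ a ∈ Subgroup.closure ({Q.g 0, Q.g 1} : Set (Spor.J3 F ω)) := Q.g_gen ▸ Subgroup.mem_top _
    have hmap : Subgroup.closure ({Q.g 0, Q.g 1} : Set (Spor.J3 F ω)) ≤ H.map σ := by
      rw [Subgroup.closure_le]
      rintro x (rfl | rfl)
      · exact ⟨l 0, Subgroup.subset_closure ⟨0, Nat.two_pos, rfl⟩, hl 0⟩
      · exact ⟨l 1, Subgroup.subset_closure ⟨1, Nat.one_lt_two, rfl⟩, hl 1⟩
    obtain ⟨g, hg, e⟩ := Subgroup.mem_map.mp (hmap ha)
    rw [show a = g * (g⁻¹ * a) by group]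
    exact mul_mem hg (hc (hcomm (by rw [MonoidHom.mem_ker, map_mul, map_inv, e, inv_mul_cancel])))
  obtain ⟨u, hu, hall⟩ := CocycleCert.cyclic_image checked σ hker φ Q.g hT hB (evalS_rel hr Q) Q.S hS
    l hl hzero hgen Abelianization.of
  have hu3 : u ^ 3 = 1 := hu
  have hkS : σ.ker ≤ Q.S.comap σ := fun z hz => by
    rw [Subgroup.mem_comap, MonoidHom.mem_ker.mp hz]; exact one_mem _
  let ρ : σ.ker →* Abelianization (Q.S.comap σ) := Abelianization.of.comp (Subgroup.inclusion hkS)
  have hρ : Function.Injective ρ := (injective_iff_map_eq_one ρ).mpr fun z hz1 => Subtype.ext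
    (ker_meet hr Q σ hsurj hker z (hkS z.2) z.2 (by
      have h1 : Abelianization.of (⟨(z : Γ), hkS z.2⟩ : Q.S.comap σ) = 1 := hz1
      rwa [← MonoidHom.mem_ker, Abelianization.ker_of] at h1))
  have hρu : ∀ z, ρ z ∈ Subgroup.zpowers u := fun z => hall _
  have h3 : Nat.card σ.ker ∣ 3 := by
    rw [Nat.card_congr (MonoidHom.ofInjective hρ).toEquiv]
    refine dvd_trans (Subgroup.card_dvd_of_le (fun x ⟨z, hzx⟩ => hzx ▸ hρu z : ρ.range ≤ Subgroup.zpowers u)) ?_
    rw [Nat.card_zpowers]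
    exact orderOf_dvd_of_pow_eq_one hu3
  have := Fact.mk Nat.prime_three
  have hcyc : IsCyclic σ.ker := by
    rcases (Nat.dvd_prime Nat.prime_three).mp h3 with h | h
    · have := (Nat.card_eq_one_iff_unique.mp h).1
      exact isCyclic_of_subsingleton
    · exact isCyclic_of_prime_card h
  obtain ⟨z, hzgen⟩ := IsCyclic.exists_generator (α := σ.ker)
  refine ⟨z, z.2, fun a ha => ?_, ?_⟩
  · obtain ⟨n, hn⟩ := Subgroup.mem_zpowers_iff.mp (hzgen ⟨a, ha⟩)
    exact ⟨n, congrArg Subtype.val hn⟩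
  · have : z ^ 3 = 1 := orderOf_dvd_iff_pow_eq_one.mp ((orderOf_dvd_natCard z).trans h3)
    exact congrArg Subtype.val this

/-- The triple cover is a stem extension. -/
theorem stem_cover (Q : Els ω) : Cfsg.IsStemExtension (QuotientGroup.mk' (Subgroup.center (Spor.threeJ3 F ω))) := by
  classical
  refine ⟨QuotientGroup.mk'_surjective _, by rw [QuotientGroup.ker_mk'], ?_⟩
  rw [QuotientGroup.ker_mk']
  have := Fact.mk Nat.prime_three
  choose l hl el' using fun x => Q.g_rep x
  let w : List (ℕ × Bool) := cert.rels.getD 13 [] ++ List.replicate 28 (0, false) ++ List.replicate 12 (1, false)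
  have hw : ∀ a ∈ w, a.1 < 2 := by decide +kernel
  have hsum : expSum 0 w = 0 ∧ expSum 1 w = 0 := by decide +kernel
  have hval : evS w = scalM := by decide +kernel
  have hinv : val3 (l 0)⁻¹ = den ω genA ∧ val3 (l 1)⁻¹ = den ω (mmul genB genB) := by
    have ho := orders_ok
    simp only [Bool.and_eq_true, Nat.beq_eq] at ho
    have key : ∀ (g : Spor.threeJ3 F ω) (A B : ℕ), val3 g = den ω A → mmul A B = idM → val3 g⁻¹ = den ω B := by
      intro g A B hg hAB
      have h1 : val3 g * den ω B = 1 := by rw [hg, ← hr.den_mmul, hAB, Root.den_idM]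
      calc val3 g⁻¹ = val3 g⁻¹ * (val3 g * den ω B) := by rw [h1, mul_one]
        _ = val3 (g⁻¹ * g) * den ω B := by rw [← mul_assoc]; rfl
        _ = den ω B := by rw [inv_mul_cancel]; exact one_mul _
    exact ⟨key _ _ _ ((el' 0).trans (by rfl)) ho.1, key _ _ _ ((el' 1).trans (by rfl)) ho.2⟩
  have hev : ∀ w : List (ℕ × Bool), (∀ a ∈ w, a.1 < 2) → val3 (evalS l w) = den ω (evS w) := by
    intro w
    induction w with
    | nil => intro _; exact Root.den_idM.symm
    | cons a w ih =>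
      intro h
      obtain ⟨x, s⟩ := a
      have hx : x < 2 := h (x, s) (by simp)
      rw [evalS_cons]
      show val3 (cond s (l x) (l x)⁻¹) * val3 (evalS l w) = den ω (mmul _ (evS w))
      rw [hr.den_mmul, ih fun a ha => h a (by simp [ha])]
      congr 1
      interval_cases x <;> cases s
      · exact hinv.1
      · exact el' 0
      · exact hinv.2
      · exact el' 1
  have hv : val3 (evalS l w) = ω • (1 : Matrix F9 F9 F) := by
    rw [hev w hw, hval, scalM, den_wvM hr, Root.den_idM]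
  have hcm : evalS l w ∈ commutator (Spor.threeJ3 F ω) := by
    rw [← Abelianization.ker_of, MonoidHom.mem_ker, map_evalS]
    show CocycleCert.tprod _ w = 1
    rw [tprodSum_eq _ w hw, hsum.1, hsum.2, zpow_zero, zpow_zero, one_mul]
  have hcen : evalS l w ∈ Subgroup.center (Spor.threeJ3 F ω) := scalar_mem_center (c := ω) hv
  have hne : evalS l w ≠ 1 := fun e => by
    have h : val3 (evalS l w) = val3 (1 : Spor.threeJ3 F ω) := congrArg val3 e
    have h1 : val3 (1 : Spor.threeJ3 F ω) = 1 := rfl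
    rw [hv, h1] at h
    have h00 := congrFun (congrFun h 0) 0
    simp only [Matrix.smul_apply, Matrix.one_apply_eq, smul_eq_mul, mul_one] at h00
    exact hr.ne_one h00
  have htop : Subgroup.zpowers (⟨_, hcen⟩ : Subgroup.center (Spor.threeJ3 F ω)) = ⊤ :=
    zpowers_eq_top_of_prime_card (card_center hr) (fun e => hne (congrArg Subtype.val e))
  intro g hg
  obtain ⟨n, hn⟩ := Subgroup.mem_zpowers_iff.mp
    (htop ▸ Subgroup.mem_top (⟨g, hg⟩ : Subgroup.center (Spor.threeJ3 F ω)))
  rw [← show evalS l w ^ n = g from congrArg Subtype.val hn]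
  exact zpow_mem hcm n

/-- The multiplier is cyclic of order three. -/
theorem multiplier : Cfsg.HasCyclicSchurMultiplier (Spor.J3 F ω) 3 := by
  obtain ⟨Q⟩ := exists_els hr
  have := Fact.mk Nat.prime_three
  have hc : Nat.card (QuotientGroup.mk' (Subgroup.center (Spor.threeJ3 F ω))).ker = 3 := by
    rw [QuotientGroup.ker_mk']; exact card_center hr
  have := isCyclic_of_prime_card hc
  exact ProjExt.Stem.hasCyclicSchurMultiplier_of _ (stem_cover hr Q)
    (mulEquivOfCyclicCardEq (by rw [hc, Nat.card_congr Multiplicative.toAdd, Nat.card_zmod]))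
    fun Γ _ _ σ hσ => ker_cyclic hr Q σ hσ

end Cfsg.Agent.JankoThree.Mult
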