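import Cfsg.Agent.JankoThree.Mult.Checked
import Cfsg.Agent.JankoThree.Out

/-!
The action of the central quotient on the cosets of a subgroup of order 4080, read off the checks.
-/

set_option autoImplicit false

namespace Cfsg.Agent.JankoThree.Mult

open Cfsg.Spor (F9)
open Cfsg.Agent.CosetCert (force force_eq get48 allFrom_iff)
open Cfsg.Agent.CocycleCert (evalS evalS_cons)


variable {F : Type*} [Field F] [Fintype F] {ω : F}

/-- An element is represented by a code. -/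
def Rep (x : Spor.J3 F ω) (A : ℕ) : Prop := ∃ g : Spor.threeJ3 F ω, toJ3 ω g = x ∧ val3 g = den ω A

theorem Rep.unique {x y : Spor.J3 F ω} {A : ℕ} (hx : Rep x A) (hy : Rep y A) : x = y := by
  obtain ⟨g, rfl, e⟩ := hx
  obtain ⟨h, rfl, e'⟩ := hy
  rw [show g = h from Subtype.ext (Units.ext (e.trans e'.symm))]

theorem rep_one : Rep (1 : Spor.J3 F ω) idM := ⟨1, map_one _, Root.den_idM.symm⟩

variable (hr : Root F ω)
include hr

theorem Rep.mul {x y : Spor.J3 F ω} {A B : ℕ} (hx : Rep x A) (hy : Rep y B) :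
    Rep (x * y) (mmul A B) := by
  obtain ⟨g, rfl, e⟩ := hx
  obtain ⟨h, rfl, e'⟩ := hy
  refine ⟨g * h, map_mul _ _ _, ?_⟩
  change val3 g * val3 h = _
  rw [hr.den_mmul, e, e']

theorem Rep.wv {x : Spor.J3 F ω} {A : ℕ} (hx : Rep x A) : Rep x (wvM A) := by
  obtain ⟨g, rfl, e⟩ := hx
  obtain ⟨u, hu, eu⟩ := exists_scalar hr
  refine ⟨⟨u, hu⟩ * g, ?_, ?_⟩
  · rw [map_mul, scalar_code hr (g := ⟨u, hu⟩) (n := scalM)
      (by rw [scalM, den_wvM hr, Root.den_idM]; exact eu) (Or.inr (Or.inl rfl)), one_mul]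
  · change (u : Matrix F9 F9 F) * val3 g = _
    rw [eu, e, den_wvM hr, smul_mul_assoc, one_mul]

theorem Rep.sh {x : Spor.J3 F ω} {A : ℕ} (hx : Rep x A) (s : ℕ) : Rep x (Mult.sh A s) := by
  unfold Mult.sh
  cases Nat.beq s 0
  · cases Nat.beq s 1
    · exact (hx.wv hr).wv hr
    · exact hx.wv hr
  · exact hx

theorem Rep.eq_one {x : Spor.J3 F ω} {A : ℕ} (hx : Rep x A) (h : scalB A = true) : x = 1 := by
  obtain ⟨g, rfl, e⟩ := hx
  simp only [scalB, Bool.or_eq_true, Nat.beq_eq] at h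
  exact scalar_code hr e h

theorem Rep.ev {x y : Spor.J3 F ω} {A B : ℕ} (hx : Rep x A) (hy : Rep y B) (w : List ℕ) :
    ∃ z ∈ Subgroup.closure ({x, y} : Set (Spor.J3 F ω)), Rep z (Mult.ev A B w) := by
  induction w with
  | nil => exact ⟨1, one_mem _, rep_one⟩
  | cons a w ih =>
    obtain ⟨z, hz, e⟩ := ih
    change ∃ z' ∈ _, Rep z' (mmul (cond (Nat.beq a 0) A B) (Mult.ev A B w))
    cases Nat.beq a 0
    · exact ⟨y * z, mul_mem (Subgroup.subset_closure (by simp)) hz, hy.mul hr e⟩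
    · exact ⟨x * z, mul_mem (Subgroup.subset_closure (by simp)) hz, hx.mul hr e⟩

/-- The elements named by the certificate. -/
structure Els (ω : F) where
  /-- The generators. -/
  g : ℕ → Spor.J3 F ω
  g_rep : ∀ x, Rep (g x) (gen x)
  g_gen : Subgroup.closure ({g 0, g 1} : Set (Spor.J3 F ω)) = ⊤
  g_sq : g 0 * g 0 = 1
  g_cube : g 1 * (g 1 * g 1) = 1
  /-- The generators of the subgroup. -/
  a : Spor.J3 F ω
  /-- The second. -/
  b : Spor.J3 F ω
  a_rep : Rep a subA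
  b_rep : Rep b subB

omit hr in
theorem gen_eq (x : ℕ) : gen x = if x = 0 then genA else genB := by
  unfold gen
  cases h : Nat.beq x 0
  · rw [if_neg (Nat.ne_of_beq_eq_false h)]; rfl
  · rw [if_pos (Nat.eq_of_beq_eq_true h)]; rfl

theorem exists_els : Nonempty (Els ω) := by
  obtain ⟨⟨⟨⟨hA, hB⟩, hG⟩, hSA⟩, hSB⟩ :=
    (by simpa only [Bool.and_eq_true, Nat.beq_eq] using words_ok :
      (((genA = C0.g1 ∧ genB = Mult.sh (Mult.ev C0.g0 C0.g1 wordB.1) wordB.2) ∧
        C0.g0 = Mult.sh (Mult.ev genA genB wordG.1) wordG.2) ∧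
        subA = Mult.sh (Mult.ev genA genB wordSubA.1) wordSubA.2) ∧
        subB = Mult.sh (Mult.ev genA genB wordSubB.1) wordSubB.2)
  have hmem : ∀ u ∈ Subgroup.closure ({aX hr, aY hr} : Set (GL F9 F)), u ∈ Spor.threeJ3 F ω :=
    fun u hu => by rw [threeJ3_eq hr]; exact hu
  let X : Spor.J3 F ω := toJ3 ω ⟨aX hr, hmem _ (Subgroup.subset_closure (by simp))⟩
  let Y : Spor.J3 F ω := toJ3 ω ⟨aY hr, hmem _ (Subgroup.subset_closure (by simp))⟩
  have hX : Rep X C0.g0 := ⟨_, rfl, rfl⟩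
  have hY : Rep Y genA := ⟨_, rfl, by rw [hA]; rfl⟩
  obtain ⟨B, -, hB'⟩ := Rep.ev hr hX (⟨_, rfl, rfl⟩ : Rep Y C0.g1) wordB.1
  have hBr : Rep B genB := by rw [hB]; exact hB'.sh hr _
  obtain ⟨X', hX', eX⟩ := Rep.ev hr hY hBr wordG.1
  have eX' : Rep X' C0.g0 := by rw [hG]; exact eX.sh hr _
  obtain ⟨a, -, ea⟩ := Rep.ev hr hY hBr wordSubA.1
  obtain ⟨b, -, eb⟩ := Rep.ev hr hY hBr wordSubB.1
  have ho := orders_ok
  simp only [Bool.and_eq_true, Nat.beq_eq] at ho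
  have h01 : ({if (0 : ℕ) = 0 then Y else B, if (1 : ℕ) = 0 then Y else B} : Set (Spor.J3 F ω)) = {Y, B} := by
    simp
  refine ⟨⟨fun x => if x = 0 then Y else B, fun x => ?_, ?_, ?_, ?_, a, b, ?_, ?_⟩⟩
  · rw [gen_eq]; split_ifs <;> assumption
  · show Subgroup.closure _ = ⊤
    rw [h01, eq_top_iff]
    intro q hq
    clear hq
    obtain ⟨⟨g, hg⟩, rfl⟩ := QuotientGroup.mk'_surjective (Subgroup.center (Spor.threeJ3 F ω)) q
    have hXmem : X ∈ Subgroup.closure ({Y, B} : Set (Spor.J3 F ω)) := by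
      rw [Rep.unique hX eX']; exact hX'
    have hg' : g ∈ Subgroup.closure ({aX hr, aY hr} : Set (GL F9 F)) := by rwa [← threeJ3_eq hr]
    suffices h : toJ3 ω ⟨g, hmem g hg'⟩ ∈ Subgroup.closure ({Y, B} : Set (Spor.J3 F ω)) from h
    clear hg
    induction hg' using Subgroup.closure_induction with
    | mem u hu =>
      rcases hu with rfl | rfl
      · exact hXmem
      · exact Subgroup.subset_closure (Or.inl rfl)
    | one => exact (map_one (toJ3 ω)).symm ▸ one_mem _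
    | mul u v hu hv hu' hv' =>
      change toJ3 ω (⟨u, hmem u hu⟩ * ⟨v, hmem v hv⟩) ∈ _
      rw [map_mul]; exact mul_mem hu' hv'
    | inv u hu hu' =>
      change toJ3 ω (⟨u, hmem u hu⟩⁻¹) ∈ _
      rw [map_inv]; exact inv_mem hu'
  · show Y * Y = 1
    exact (hY.mul hr hY).unique (by rw [ho.1]; exact rep_one)
  · show B * (B * B) = 1
    exact (hBr.mul hr (hBr.mul hr hBr)).unique (by rw [ho.2]; exact rep_one)
  · rw [hSA]; exact ea.sh hr _
  · rw [hSB]; exact eb.sh hr _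

variable (Q : Els ω)

/-- The subgroup. -/
def Els.S : Subgroup (Spor.J3 F ω) := Subgroup.closure {Q.a, Q.b}

omit hr in
theorem subg_at {k : ℕ} (hk : k < 4080) :
    (get48 hedgeStore (2 * k) < 4080 ∧ mmul subA (el k) = el (get48 hedgeStore (2 * k))) ∧
    (get48 hedgeStore (2 * k + 1) < 4080 ∧ mmul subB (el k) = el (get48 hedgeStore (2 * k + 1))) ∧
    (k = 0 → el k = idM) ∧ (k ≠ 0 → get48 hparStore k / 2 < k ∧
      el k = mmul (cond (Nat.beq (get48 hparStore k % 2) 0) subA subB) (el (get48 hparStore k / 2))) := by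
  have h := subg_ok k hk
  simp only [subB', force_eq, Bool.and_eq_true, Nat.blt_eq, Nat.beq_eq] at h
  obtain ⟨⟨⟨⟨h1, h2⟩, h3⟩, h4⟩, h5⟩ := h
  refine ⟨⟨h1, h2⟩, ⟨h3, h4⟩, fun h0 => ?_, fun h0 => ?_⟩
  · subst h0
    simpa using h5
  · rw [show Nat.beq k 0 = false from Bool.eq_false_iff.mpr fun e => h0 (Nat.eq_of_beq_eq_true e),
      cond_false, Bool.and_eq_true, Nat.blt_eq, Nat.beq_eq] at h5
    exact h5

theorem Els.exists_el : ∀ k < 4080, ∃ x ∈ Q.S, Rep x (el k) := by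
  intro k
  induction k using Nat.strong_induction_on with
  | _ k ih =>
    intro hk
    obtain ⟨-, -, hz, hp⟩ := subg_at hk
    by_cases h0 : k = 0
    · exact ⟨1, one_mem _, by rw [hz h0]; exact rep_one⟩
    obtain ⟨h1, h2⟩ := hp h0
    obtain ⟨y, hy, ey⟩ := ih _ h1 (h1.trans hk)
    rw [h2]
    cases Nat.beq (get48 hparStore k % 2) 0
    · exact ⟨Q.b * y, mul_mem (Subgroup.subset_closure (by simp)) hy, Q.b_rep.mul hr ey⟩
    · exact ⟨Q.a * y, mul_mem (Subgroup.subset_closure (by simp)) hy, Q.a_rep.mul hr ey⟩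

theorem Els.mem_S [Finite (Spor.J3 F ω)] {x : Spor.J3 F ω} (hx : x ∈ Q.S) :
    ∃ k < 4080, Rep x (el k) := by
  suffices h : ∀ y, (∃ k < 4080, Rep y (el k)) → ∃ k < 4080, Rep (x * y) (el k) by
    simpa using h 1 ⟨0, by norm_num, by rw [(subg_at (by norm_num)).2.2.1 rfl]; exact rep_one⟩
  induction hx using Subgroup.closure_induction with
  | mem u hu =>
    rintro y ⟨k, hk, e⟩
    obtain ⟨⟨hA1, hA2⟩, ⟨hB1, hB2⟩, -⟩ := subg_at hk
    rcases hu with rfl | rfl
    · exact ⟨_, hA1, hA2 ▸ Q.a_rep.mul hr e⟩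
    · exact ⟨_, hB1, hB2 ▸ Q.b_rep.mul hr e⟩
  | one => intro y hy; rwa [one_mul]
  | mul u v _ _ hu hv => intro y hy; rw [mul_assoc]; exact hu _ (hv y hy)
  | inv u _ hu =>
    have hp : ∀ n : ℕ, ∀ y, (∃ k < 4080, Rep y (el k)) → ∃ k < 4080, Rep (u ^ n * y) (el k) := by
      intro n
      induction n with
      | zero => intro y hy; rwa [pow_zero, one_mul]
      | succ n ih => intro y hy; rw [pow_succ', mul_assoc]; exact hu _ (ih y hy)
    rw [inv_eq_of_mul_eq_one_right (b := u ^ (orderOf u - 1)) (by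
      rw [← pow_succ', Nat.sub_add_cancel (orderOf_pos u), pow_orderOf_eq_one])]
    exact hp _

omit [Field F] [Fintype F] hr in
theorem edge_at {i : ℕ} (hi : i < 24624) : tab (i / 2) (i % 2) < 12312 ∧
    mmul (tr (i / 2)) (gen (i % 2)) =
      sh (mmul (el (get48 edgeStore i % 12240 / 3)) (tr (tab (i / 2) (i % 2)))) (get48 edgeStore i % 3) := by
  have h := edge_ok i hi
  simp only [edgeB, force_eq, Bool.and_eq_true, Nat.blt_eq, Nat.beq_eq] at h
  have e : tab (i / 2) (i % 2) = get48 edgeStore i / 12240 := by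
    show get48 edgeStore (2 * (i / 2) + i % 2) / 12240 = _
    rw [Nat.div_add_mod]
  rw [e]
  exact h

include Q in
theorem Els.exists_tr : ∀ c < 12312, ∃ x, Rep (ω := ω) x (tr c) ∧ (c = 0 → x = 1) := by
  intro c
  induction c using Nat.strong_induction_on with
  | _ c ih =>
    intro hc
    have h := trans_ok c hc
    simp only [transB, force_eq] at h
    by_cases h0 : c = 0
    · subst h0
      refine ⟨1, ?_, fun _ => rfl⟩
      have h' : tr 0 = idM := Nat.eq_of_beq_eq_true h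
      rw [h']; exact rep_one
    rw [show Nat.beq c 0 = false from Bool.eq_false_iff.mpr fun e => h0 (Nat.eq_of_beq_eq_true e),
      cond_false, Bool.and_eq_true, Nat.blt_eq, Nat.beq_eq] at h
    obtain ⟨y, hy, -⟩ := ih _ h.1 (h.1.trans hc)
    exact ⟨y * Q.g _, h.2 ▸ hy.mul hr (Q.g_rep _), fun e => absurd e h0⟩

/-- The coset model: an action with stabiliser `S` at the base, and the orders. -/
theorem Els.exists_action : Nat.card Q.S = 4080 ∧ Q.S.index = 12312 ∧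
    ∃ φ : Spor.J3 F ω →* Equiv.Perm (Fin 12312),
      (∀ x < 2, ∀ c : Fin 12312, (((φ (Q.g x))⁻¹ c : Fin 12312) : ℕ) = tab c x) ∧
      (∀ x < 2, ∀ c : Fin 12312, ((φ (Q.g x) c : Fin 12312) : ℕ) = btab c x) ∧
      ∀ y, φ y ⟨0, by norm_num⟩ = ⟨0, by norm_num⟩ ↔ y ∈ Q.S := by
  classical
  have hcard := card_J3 hr
  have : Finite (Spor.J3 F ω) := Nat.finite_of_card_ne_zero (by rw [hcard]; norm_num)
  choose τ hτ hτ0 using fun c : Fin 12312 => Q.exists_tr hr c c.2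
  let R : Fin 12312 → Spor.J3 F ω ⧸ Q.S := fun c => QuotientGroup.mk (τ c)⁻¹
  have hstep : ∀ x < 2, ∀ c : Fin 12312, ∀ hT : tab c x < 12312,
      (Q.g x)⁻¹ • R c = R ⟨tab c x, hT⟩ := by
    intro x hx c hT
    obtain ⟨-, he⟩ := edge_at (show 2 * (c : ℕ) + x < 24624 by omega)
    have h1 : (2 * (c : ℕ) + x) / 2 = c := by omega
    have h2 : (2 * (c : ℕ) + x) % 2 = x := by omega
    rw [h1, h2] at he
    obtain ⟨k, hk, hek⟩ : ∃ k < 4080, get48 edgeStore (2 * (c : ℕ) + x) % 12240 / 3 = k :=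
      ⟨_, by omega, rfl⟩
    rw [hek] at he
    obtain ⟨h, hh, eh⟩ := Q.exists_el hr k hk
    have e1 : τ c * Q.g x = h * τ ⟨tab c x, hT⟩ :=
      ((hτ c).mul hr (Q.g_rep x)).unique (by rw [he]; exact (eh.mul hr (hτ ⟨tab c x, hT⟩)).sh hr _)
    show QuotientGroup.mk ((Q.g x)⁻¹ * (τ c)⁻¹) = R _
    rw [← mul_inv_rev, e1, mul_inv_rev]
    exact (QuotientGroup.mk_mul_of_mem _ (inv_mem hh))
  have htab : ∀ x < 2, ∀ c : Fin 12312, tab c x < 12312 := fun x hx c => by
    have := (edge_at (show 2 * (c : ℕ) + x < 24624 by omega)).1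
    rwa [show (2 * (c : ℕ) + x) / 2 = c by omega, show (2 * (c : ℕ) + x) % 2 = x by omega] at this
  have hbtab : ∀ x < 2, ∀ c : Fin 12312, btab c x < 12312 ∧ tab (btab c x) x = c := fun x hx c => by
    have h := back_ok (2 * (c : ℕ) + x) (by omega)
    simp only [backB, force_eq, Bool.and_eq_true, Nat.blt_eq, Nat.beq_eq] at h
    rwa [show (2 * (c : ℕ) + x) / 2 = c by omega, show (2 * (c : ℕ) + x) % 2 = x by omega] at h
  have hback : ∀ x (hx : x < 2) (c : Fin 12312), Q.g x • R c = R ⟨btab c x, (hbtab x hx c).1⟩ := by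
    intro x hx c
    rw [← eq_inv_smul_iff, hstep x hx _ (by rw [(hbtab x hx c).2]; exact c.2)]
    congr 1
    exact Fin.ext (hbtab x hx c).2.symm
  have hR0 : R ⟨0, by norm_num⟩ = QuotientGroup.mk 1 := by
    show QuotientGroup.mk (τ ⟨0, _⟩)⁻¹ = _
    rw [hτ0 _ rfl, inv_one]
  have hinv : ∀ y : Spor.J3 F ω, ∀ c, ∃ c', y • R c = R c' := by
    intro y
    have hy : y ∈ Subgroup.closure ({Q.g 0, Q.g 1} : Set (Spor.J3 F ω)) := Q.g_gen ▸ Subgroup.mem_top y
    refine Subgroup.closure_induction (p := fun y _ => (∀ c, ∃ c', y • R c = R c') ∧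
      ∀ c, ∃ c', y⁻¹ • R c = R c') ?_ ?_ ?_ ?_ hy |>.1
    · rintro u (rfl | rfl)
      · exact ⟨fun c => ⟨_, hback 0 (by norm_num) c⟩, fun c => ⟨_, hstep 0 (by norm_num) c (htab 0 (by norm_num) c)⟩⟩
      · exact ⟨fun c => ⟨_, hback 1 (by norm_num) c⟩, fun c => ⟨_, hstep 1 (by norm_num) c (htab 1 (by norm_num) c)⟩⟩
    · exact ⟨fun c => ⟨c, one_smul _ _⟩, fun c => ⟨c, by rw [inv_one, one_smul]⟩⟩
    · rintro u v _ _ ⟨hu, hu'⟩ ⟨hv, hv'⟩
      refine ⟨fun c => ?_, fun c => ?_⟩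
      · obtain ⟨c1, e1⟩ := hv c
        obtain ⟨c2, e2⟩ := hu c1
        exact ⟨c2, by rw [mul_smul, e1, e2]⟩
      · obtain ⟨c1, e1⟩ := hu' c
        obtain ⟨c2, e2⟩ := hv' c1
        exact ⟨c2, by rw [mul_inv_rev, mul_smul, e1, e2]⟩
    · rintro u _ ⟨hu, hu'⟩
      exact ⟨hu', by rwa [inv_inv]⟩
  have hsurj : Function.Surjective R := by
    intro q
    obtain ⟨y, rfl⟩ := QuotientGroup.mk_surjective q
    obtain ⟨c, hc⟩ := hinv y ⟨0, by norm_num⟩
    refine ⟨c, ?_⟩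
    rw [← hc, hR0, MulAction.Quotient.smul_mk, smul_eq_mul, mul_one]
  have hq : Q.S.index ≤ 12312 := by
    have := Nat.card_le_card_of_surjective R hsurj
    rwa [Nat.card_fin] at this
  choose ef hef1 hef2 using fun k : Fin 4080 => Q.exists_el hr k k.2
  have hS : Nat.card Q.S ≤ 4080 := by
    have hs : Function.Surjective (fun k : Fin 4080 => (⟨ef k, hef1 k⟩ : Q.S)) := fun x => by
      obtain ⟨k, hk, e⟩ := Q.mem_S hr x.2
      exact ⟨⟨k, hk⟩, Subtype.ext ((hef2 ⟨k, hk⟩).unique e)⟩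
    have := Nat.card_le_card_of_surjective _ hs
    rwa [Nat.card_fin] at this
  have hmul := Subgroup.card_mul_index Q.S
  rw [hcard] at hmul
  have hi : Q.S.index = 12312 := by
    refine le_antisymm hq ?_
    have := Nat.mul_le_mul_right Q.S.index hS
    omega
  rw [hi] at hmul
  refine ⟨by omega, hi, ?_⟩
  have hbij : Function.Bijective R :=
    (Fintype.bijective_iff_surjective_and_card R).2 ⟨hsurj, by
      rw [Fintype.card_fin, ← Nat.card_eq_fintype_card]; exact hi.symm⟩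
  let e := Equiv.ofBijective R hbij
  let φ : Spor.J3 F ω →* Equiv.Perm (Fin 12312) :=
    (e.symm.permCongrHom.toMonoidHom).comp (MulAction.toPermHom (Spor.J3 F ω) (Spor.J3 F ω ⧸ Q.S))
  have hφ : ∀ y c, R (φ y c) = y • R c := fun y c => by
    show e (φ y c) = y • e c
    simp [φ, Equiv.permCongrHom, Equiv.permCongr_apply]
  refine ⟨φ, fun x hx c => ?_, fun x hx c => ?_, fun y => ?_⟩
  · rw [← map_inv]
    have h := (hφ (Q.g x)⁻¹ c).trans (hstep x hx c (htab x hx c))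
    exact congrArg Fin.val (hbij.1 h)
  · exact congrArg Fin.val (hbij.1 ((hφ _ c).trans (hback x hx c)))
  · rw [← hbij.1.eq_iff, hφ, hR0, MulAction.Quotient.smul_mk, smul_eq_mul, mul_one, QuotientGroup.eq,
      mul_one]
    exact inv_mem_iff

end Cfsg.Agent.JankoThree.Mult
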