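import Cfsg.Agent.SylMult.Basic

/-!
Lifts of an elementary subgroup of order 16 commute when an element permutes a basis like multiplication by a
generator of the field of order 16.
-/

set_option autoImplicit false

namespace Cfsg.Agent.JankoThree.Mult

open scoped commutatorElement

variable {Γ Q : Type*} [Group Γ] [Group Q]

theorem commute_lifts (π : Γ →* Q) (hsurj : Function.Surjective π) (hc : π.ker ≤ Subgroup.center Γ)
    (e : ℕ → Q) (t : Q) (he : ∀ i < 4, t * e i = e (i + 1) * t)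
    (h4 : e 4 = e 0 * e 1) (hsq : ∀ i < 4, e i * e i = 1)
    (hcm : ∀ i < 4, ∀ j < 4, e i * e j = e j * e i) :
    ∀ u v : Γ, π u ∈ Subgroup.closure {x | ∃ i < 4, e i = x} →
      π v ∈ Subgroup.closure {x | ∃ i < 4, e i = x} → u * v = v * u := by
  classical
  obtain ⟨T, rfl⟩ := hsurj t
  obtain ⟨E0, hE0⟩ := hsurj (e 0)
  let E : ℕ → Γ := fun i => T ^ i * E0 * (T ^ i)⁻¹
  have hπE : ∀ i ≤ 4, π (E i) = e i := by
    intro i
    induction i with
    | zero => intro _; simp [E, hE0]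
    | succ i ih =>
      intro hi
      have : E (i + 1) = T * E i * T⁻¹ := by
        simp only [E, pow_succ', mul_inv_rev]
        group
      rw [this, map_mul, map_mul, map_inv, ih (by omega), he i (by omega), mul_inv_cancel_right]
  have hz : ∀ z ∈ π.ker, ∀ g : Γ, g * z = z * g := fun z hz g => Subgroup.mem_center_iff.1 (hc hz) g
  have hcen : ∀ i ≤ 4, ∀ j ≤ 4, e i * e j = e j * e i → ⁅E i, E j⁆ ∈ π.ker := fun i hi j hj h => by
    rw [MonoidHom.mem_ker, map_commutatorElement, hπE i hi, hπE j hj,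
      commutatorElement_eq_one_iff_mul_comm]
    exact h
  have hcm5 : ∀ i ≤ 4, ∀ j ≤ 4, e i * e j = e j * e i := by
    have h44 : ∀ j < 4, e 4 * e j = e j * e 4 := fun j hj => by
      rw [h4, mul_assoc, hcm 1 (by norm_num) j hj, ← mul_assoc, hcm 0 (by norm_num) j hj, mul_assoc]
    intro i hi j hj
    rcases eq_or_lt_of_le hi with rfl | hi <;> rcases eq_or_lt_of_le hj with rfl | hj
    · rfl
    · exact h44 j hj
    · exact (h44 i hi).symm
    · exact hcm i hi j hj
  let z : ℕ → ℕ → Γ := fun i j => ⁅E i, E j⁆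
  have hshift : ∀ i < 4, ∀ j < 4, z (i + 1) (j + 1) = z i j := fun i hi j hj => by
    have h : z (i + 1) (j + 1) = T * z i j * T⁻¹ := by
      simp only [z, E, commutatorElement_def, pow_succ', mul_inv_rev]
      group
    rw [h, hz _ (hcen i hi.le j hj.le (hcm i hi j hj)) T, mul_inv_cancel_right]
  -- the commutator is additive in the second variable
  have hadd : ∀ g a b : Γ, ⁅g, b⁆ ∈ π.ker → ⁅g, a * b⁆ = ⁅g, a⁆ * ⁅g, b⁆ := fun g a b hb => by
    calc ⁅g, a * b⁆ = g * a * g⁻¹ * ⁅g, b⁆ * a⁻¹ := by simp only [commutatorElement_def]; group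
      _ = g * a * g⁻¹ * (⁅g, b⁆ * a⁻¹) := by rw [mul_assoc]
      _ = g * a * g⁻¹ * (a⁻¹ * ⁅g, b⁆) := by rw [hz _ hb a⁻¹]
      _ = ⁅g, a⁆ * ⁅g, b⁆ := by simp only [commutatorElement_def]; group
  have hmul : ∀ i < 4, z i 4 = z i 0 * z i 1 := fun i hi => by
    obtain ⟨c, hc', hE4⟩ : ∃ c ∈ π.ker, E 4 = E 0 * E 1 * c :=
      ⟨(E 0 * E 1)⁻¹ * E 4, by
        rw [MonoidHom.mem_ker, map_mul, map_inv, map_mul, hπE 0 (by norm_num), hπE 1 (by norm_num),
          hπE 4 le_rfl, h4, inv_mul_cancel], by group⟩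
    have h1 : ⁅E i, c⁆ = 1 := commutatorElement_eq_one_iff_mul_comm.2 (hz c hc' _)
    show ⁅E i, E 4⁆ = _
    rw [hE4, hadd _ _ _ (by rw [h1]; exact one_mem _), h1, mul_one,
      hadd _ _ _ (hcen i hi.le 1 (by norm_num) (hcm5 i hi.le 1 (by norm_num)))]
  have hflip : ∀ i j, z i j = (z j i)⁻¹ := fun i j => (commutatorElement_inv _ _).symm
  have hmem : ∀ i ≤ 4, ∀ j ≤ 4, z i j ∈ π.ker := fun i hi j hj => hcen i hi j hj (hcm5 i hi j hj)
  have hsq2 : ∀ i < 4, ∀ j ≤ 4, z j i * z j i = 1 := fun i hi j hj => by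
    have h2 : E i * E i ∈ π.ker := by rw [MonoidHom.mem_ker, map_mul, hπE i hi.le, hsq i hi]
    show ⁅E j, E i⁆ * ⁅E j, E i⁆ = 1
    rw [← hadd _ _ _ (hmem j hj i hi.le), commutatorElement_eq_one_iff_mul_comm]
    exact hz _ h2 _
  have hinv : ∀ i < 4, ∀ j ≤ 4, (z j i)⁻¹ = z j i := fun i hi j hj =>
    inv_eq_of_mul_eq_one_right (hsq2 i hi j hj)
  have s01 := hshift 0 (by norm_num) 1 (by norm_num)
  have s02 := hshift 0 (by norm_num) 2 (by norm_num)
  have s03 := hshift 0 (by norm_num) 3 (by norm_num)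
  have s12 := hshift 1 (by norm_num) 2 (by norm_num)
  have s13 := hshift 1 (by norm_num) 3 (by norm_num)
  have s23 := hshift 2 (by norm_num) 3 (by norm_num)
  norm_num at s01 s02 s03 s12 s13 s23
  -- solve
  have a3 : z 0 3 = z 0 1 := by
    have h := hmul 1 (by norm_num)
    rw [s03, show z 1 1 = 1 from commutatorElement_self _, mul_one, hflip 1 0,
      hinv 1 (by norm_num) 0 (by norm_num)] at h
    exact h
  have a1 : z 0 1 = 1 := by
    have h := hmul 2 (by norm_num)
    rw [s13, s02, hflip 2 0, hinv 2 (by norm_num) 0 (by norm_num), hflip 2 1,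
      hinv 2 (by norm_num) 1 (by norm_num), s01] at h
    exact mul_left_cancel (h.symm.trans (mul_one _).symm)
  have a2 : z 0 2 = 1 := by
    have h := hmul 3 (by norm_num)
    rw [s23, s12, s01, hflip 3 0, hinv 3 (by norm_num) 0 (by norm_num), hflip 3 1,
      hinv 3 (by norm_num) 1 (by norm_num), s02, a3, a1, one_mul] at h
    exact h.symm
  rw [a1] at a3
  rw [a1] at s01
  rw [a2] at s02
  rw [s01] at s12
  rw [s02] at s13
  have hall : ∀ i < 4, ∀ j < 4, z i j = 1 := by
    have hup : ∀ i < 4, ∀ j < 4, i ≤ j → z i j = 1 := by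
      intro i hi j hj hij
      interval_cases i <;> interval_cases j <;>
        first
          | exact commutatorElement_self _
          | exact a1 | exact a2 | exact a3 | exact s01 | exact s02 | exact s12 | exact s13
    intro i hi j hj
    rcases le_total i j with h | h
    · exact hup i hi j hj h
    · rw [hflip, hup j hj i hi h, inv_one]
  have hW : (Subgroup.closure {x | ∃ i < 4, e i = x}).comap π ≤
      Subgroup.closure ({x | ∃ i < 4, E i = x} ∪ (π.ker : Set Γ)) := by
    intro u hu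
    rw [Subgroup.closure_union, Subgroup.closure_eq]
    have : π u ∈ (Subgroup.closure {x | ∃ i < 4, E i = x}).map π := by
      rw [MonoidHom.map_closure]
      refine Subgroup.closure_mono ?_ (Subgroup.mem_comap.1 hu)
      rintro x ⟨i, hi, rfl⟩
      exact ⟨E i, ⟨i, hi, rfl⟩, hπE i hi.le⟩
    obtain ⟨w, hw, hwu⟩ := Subgroup.mem_map.1 this
    rw [show u = w * (w⁻¹ * u) by group]
    exact mul_mem (Subgroup.mem_sup_left hw) (Subgroup.mem_sup_right (by
      rw [MonoidHom.mem_ker, map_mul, map_inv, hwu, inv_mul_cancel]))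
  have hgens : ∀ a ∈ ({x | ∃ i < 4, E i = x} ∪ (π.ker : Set Γ)), ∀ b ∈ ({x | ∃ i < 4, E i = x} ∪ (π.ker : Set Γ)),
      a * b = b * a := by
    rintro a (⟨i, hi, rfl⟩ | ha) b hb
    · rcases hb with ⟨j, hj, rfl⟩ | hb
      · exact commutatorElement_eq_one_iff_mul_comm.1 (hall i hi j hj)
      · exact hz b hb _
    · exact (hz a ha b).symm
  intro u v hu hv
  have := (Subgroup.isMulCommutative_closure hgens).is_comm.comm ⟨u, hW hu⟩ ⟨v, hW hv⟩
  exact congrArg Subtype.val this

end Cfsg.Agent.JankoThree.Mult
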