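import Cfsg.Agent.JankoThree.Mult.Model
import Cfsg.Agent.JankoThree.Mult.Pairing

/-!
In a central extension of the subgroup of order 4080 the kernel meets the derived group trivially.
-/

set_option autoImplicit false

namespace Cfsg.Agent.JankoThree.Mult

open Cfsg.Agent.CosetCert (allFrom_iff)

variable {F : Type*} [Field F] [Fintype F] {ω : F}

theorem four_at {i : ℕ} (hi : i < 256) :
    mmul (el (vIdx.getD (i / 16) 0)) (el (vIdx.getD (i % 16) 0)) =
      el (vIdx.getD (Nat.xor (i / 16) (i % 16)) 0) := by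
  have h := (allFrom_iff fourB 0 256).1 four_ok.1 i (Nat.zero_le i) (by omega)
  simpa only [fourB, Nat.beq_eq] using h

theorem ker_meet (hr : Root F ω) (Q : Els ω) {Γ : Type*} [Group Γ] [Finite Γ] (σ : Γ →* Spor.J3 F ω)
    (hsurj : Function.Surjective σ) (hker : σ.ker ≤ Subgroup.center Γ)
    (z : Γ) (hz : z ∈ Q.S.comap σ) (hzk : z ∈ σ.ker)
    (hzc : (⟨z, hz⟩ : Q.S.comap σ) ∈ commutator (Q.S.comap σ)) : z = 1 := by
  classical
  have hcard := (Q.exists_action hr).1
  have : Finite Q.S := Nat.finite_of_card_ne_zero (by rw [hcard]; norm_num)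
  have : Fintype Q.S := Fintype.ofFinite _
  have : Finite (Spor.J3 F ω) := Nat.finite_of_card_ne_zero (by rw [card_J3 hr]; norm_num)
  choose ef hef1 hef2 using fun k : Fin 4080 => Q.exists_el hr k k.2
  let f : Fin 4080 → Q.S := fun k => ⟨ef k, hef1 k⟩
  have hsf : Function.Surjective f := fun x => by
    obtain ⟨k, hk, e⟩ := Q.mem_S hr x.2
    exact ⟨⟨k, hk⟩, Subtype.ext ((hef2 ⟨k, hk⟩).unique e)⟩
  have hbf : Function.Bijective f := (Fintype.bijective_iff_surjective_and_card f).2
    ⟨hsf, by rw [Fintype.card_fin, ← Nat.card_eq_fintype_card, hcard]⟩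
  have hf : ∀ k, Rep (ω := ω) (f k : Spor.J3 F ω) (el k) := hef2
  let F' : ℕ → Q.S := fun k => if h : k < 4080 then f ⟨k, h⟩ else 1
  have hF : ∀ k < 4080, Rep (ω := ω) (F' k : Spor.J3 F ω) (el k) := fun k hk => by
    simp only [F', dif_pos hk]; exact hf _
  have hF1 : F' 0 = 1 := Subtype.ext ((hF 0 (by norm_num)).unique
    (by rw [(subg_at (by norm_num)).2.2.1 rfl]; exact rep_one))
  have hFinj : ∀ j < 4080, ∀ k < 4080, F' j = F' k → j = k := fun j hj k hk e => by
    simp only [F', dif_pos hj, dif_pos hk] at e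
    exact congrArg Fin.val (hbf.1 e)
  have hFmul : ∀ i j k, i < 4080 → j < 4080 → k < 4080 → mmul (el i) (el j) = el k →
      F' i * F' j = F' k := fun i j k hi hj hk e => Subtype.ext
    (((hF i hi).mul hr (hF j hj)).unique (by rw [e]; exact hF k hk))
  let W := Q.S.comap σ
  let π : W →* Q.S := (σ.comp W.subtype).codRestrict Q.S fun p => p.2
  have hπ : Function.Surjective π := fun h => by
    obtain ⟨x, hx⟩ := hsurj h
    exact ⟨⟨x, by rw [Subgroup.mem_comap, hx]; exact h.2⟩, Subtype.ext hx⟩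
  have hπk : π.ker ≤ Subgroup.center W := fun p hp => Subgroup.mem_center_iff.mpr fun q =>
    Subtype.ext (Subgroup.mem_center_iff.mp (hker (congrArg Subtype.val (MonoidHom.mem_ker.mp hp))) q)
  have hzπ : (⟨z, hz⟩ : W) ∈ π.ker := MonoidHom.mem_ker.mpr (Subtype.ext hzk)
  suffices h : ∀ p : ℕ, p.Prime → ∃ P : Subgroup Q.S, ¬ p ∣ P.index ∧
      ∀ u v : W, π u ∈ P → π v ∈ P → u * v = v * u by
    by_contra hne
    obtain ⟨p, hp, hpd⟩ := Nat.exists_prime_and_dvd (n := orderOf (⟨z, hz⟩ : W))
      (fun e => hne (congrArg Subtype.val (orderOf_eq_one_iff.mp e)))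
    obtain ⟨P, hP, hc⟩ := h p hp
    exact hP (hpd.trans (orderOf_dvd_of_pow_eq_one
      (SylMult.pow_index_eq_one π hπ hπk hc hzπ hzc)))
  have hidx : ∀ (P : Subgroup Q.S) (m : ℕ), Nat.card P = m → P.index * m = 4080 := fun P m hm => by
    rw [← hm, mul_comm, Subgroup.card_mul_index, hcard]
  obtain ⟨hnd, hvlt, hvlen, hv0, hve, helt, htlt⟩ := four_idx
  intro p hp
  by_cases h2 : p = 2
  · subst h2
    let v : Fin 16 → Q.S := fun m => F' (vIdx.getD m 0)
    have hvb : ∀ m : Fin 16, vIdx.getD m 0 < 4080 := fun m => hvlt _ (by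
      rw [List.getD_eq_getElem _ _ (by rw [hvlen]; exact m.2)]; exact List.getElem_mem _)
    have hx : ∀ a b : Fin 16, Nat.xor (a : ℕ) b < 16 := fun a b =>
      Nat.xor_lt_two_pow (n := 4) a.2 b.2
    have hvmul : ∀ a b : Fin 16, v a * v b = v ⟨Nat.xor a b, hx a b⟩ := fun a b => by
      refine hFmul _ _ _ (hvb a) (hvb b) (hvb ⟨_, hx a b⟩) ?_
      have h := four_at (i := 16 * (a : ℕ) + b) (by omega)
      rwa [show (16 * (a : ℕ) + b) / 16 = a by omega, show (16 * (a : ℕ) + b) % 16 = b by omega] at h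
    have hv1 : v 0 = 1 := by
      show F' (vIdx.getD 0 0) = 1
      rw [hv0, hF1]
    have hvinv : ∀ a, (v a)⁻¹ = v a := fun a => inv_eq_of_mul_eq_one_right (by
      rw [hvmul, ← hv1]
      exact congrArg v (Fin.ext (Nat.xor_self (a : ℕ))))
    have hvinj : Function.Injective v := fun a b e => by
      have h := hFinj _ (hvb a) _ (hvb b) e
      rw [List.getD_eq_getElem _ _ (by rw [hvlen]; exact a.2),
        List.getD_eq_getElem _ _ (by rw [hvlen]; exact b.2)] at h
      exact Fin.ext (hnd.getElem_inj_iff.mp h)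
    let P : Subgroup Q.S :=
      { carrier := Set.range v
        one_mem' := ⟨0, hv1⟩
        mul_mem' := by rintro _ _ ⟨a, rfl⟩ ⟨b, rfl⟩; exact ⟨_, (hvmul a b).symm⟩
        inv_mem' := by rintro _ ⟨a, rfl⟩; exact ⟨a, (hvinv a).symm⟩ }
    have hP : Nat.card P = 16 := (Nat.card_congr (Equiv.ofInjective v hvinj)).symm.trans (Nat.card_fin 16)
    refine ⟨P, fun hd => ?_, ?_⟩
    · have := hidx P 16 hP
      omega
    let e : ℕ → Q.S := fun i => F' (eIdx.getD i 0)
    have hev : ∀ i (hi : i < 4), e i = v ⟨2 ^ i, by interval_cases i <;> norm_num⟩ := fun i hi => by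
      show F' _ = F' _
      rw [hve i hi]
    have he : ∀ i < 4, F' tIdx * e i = e (i + 1) * F' tIdx := fun i hi => by
      have h := (allFrom_iff torusB 0 4).1 four_ok.2.1 i (Nat.zero_le i) (by omega)
      simp only [torusB, Nat.beq_eq] at h
      exact Subtype.ext (((hF _ htlt).mul hr (hF _ (helt i (by omega)))).unique
        (by rw [h]; exact (hF _ (helt (i + 1) (by omega))).mul hr (hF _ htlt)))
    have h4 : e 4 = e 0 * e 1 :=
      (hFmul _ _ _ (helt 0 (by norm_num)) (helt 1 (by norm_num)) (helt 4 (by norm_num)) four_ok.2.2).symm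
    have hcomm : ∀ a b, v a * v b = v b * v a := fun a b => by
      rw [hvmul, hvmul]
      congr 1
      exact Fin.ext (Nat.xor_comm _ _)
    have hle : P ≤ Subgroup.closure {x | ∃ i < 4, e i = x} := by
      rintro _ ⟨a, rfl⟩
      have hstep : ∀ m : ℕ, ∀ hm : m < 16, v ⟨m, hm⟩ ∈ Subgroup.closure {x | ∃ i < 4, e i = x} := by
        intro m
        induction m using Nat.strong_induction_on with
        | _ m ih =>
          intro hm
          by_cases hm0 : m = 0
          · subst hm0
            exact (show v ⟨0, hm⟩ = 1 from hv1) ▸ one_mem _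
          obtain ⟨i, hi, r, hr', hmr⟩ : ∃ i < 4, ∃ r < m, Nat.xor (2 ^ i) r = m := by
            interval_cases m <;> first | omega | decide
          have h := hvmul ⟨2 ^ i, by interval_cases i <;> norm_num⟩ ⟨r, hr'.trans hm⟩
          rw [show v ⟨m, hm⟩ = v ⟨2 ^ i, by interval_cases i <;> norm_num⟩ * v ⟨r, hr'.trans hm⟩ by
            rw [h]; exact congrArg v (Fin.ext hmr.symm)]
          exact mul_mem (Subgroup.subset_closure ⟨i, hi, hev i hi⟩) (ih r hr' _)
      exact hstep a a.2
    intro u w hu hw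
    exact commute_lifts π hπ hπk e (F' tIdx) he h4
      (fun i hi => by rw [hev i hi]; exact (congrArg (_ * ·) (hvinv _).symm).trans (mul_inv_cancel _))
      (fun i hi j hj => by rw [hev i hi, hev j hj]; exact hcomm _ _) u w (hle hu) (hle hw)
  · by_cases hpd : p ∣ 4080
    · have hmem : p = 3 ∨ p = 5 ∨ p = 17 := by
        have hle : p ∣ 3 * 5 * 17 := by
          refine ((Nat.coprime_primes hp Nat.prime_two).mpr h2).pow_right 4 |>.dvd_of_dvd_mul_left ?_
          norm_num
          exact hpd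
        rcases (Nat.Prime.dvd_mul hp).1 hle with h | h
        · rcases (Nat.Prime.dvd_mul hp).1 h with h | h
          · exact Or.inl ((Nat.prime_dvd_prime_iff_eq hp Nat.prime_three).1 h)
          · exact Or.inr (Or.inl ((Nat.prime_dvd_prime_iff_eq hp Nat.prime_five).1 h))
        · exact Or.inr (Or.inr ((Nat.prime_dvd_prime_iff_eq hp (by norm_num)).1 h))
      obtain ⟨k, hk⟩ : ∃ k, (p, k) ∈ pIdx := by
        rcases hmem with rfl | rfl | rfl <;> simp [pIdx]
      have h := List.all_eq_true.mp primes_ok _ hk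
      simp only [Bool.and_eq_true, Nat.blt_eq, Nat.beq_eq] at h
      obtain ⟨⟨hk0, hk4⟩, hpow⟩ := h
      have hrep : ∀ n : ℕ, Rep (ω := ω) ((F' k ^ n : Q.S) : Spor.J3 F ω)
          (Nat.rec (motive := fun _ => ℕ) idM (fun _ r => mmul (el k) r) n) := by
        intro n
        induction n with
        | zero => rw [pow_zero]; exact rep_one
        | succ n ih =>
          rw [pow_succ', Subgroup.coe_mul]
          exact (hF k hk4).mul hr ih
      have := Fact.mk hp
      have hord : orderOf (F' k) = p := orderOf_eq_prime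
        (Subtype.ext ((hrep p).unique (by rw [hpow]; exact rep_one)))
        (fun e => by have := hFinj k hk4 0 (by norm_num) (e.trans hF1.symm); omega)
      refine ⟨Subgroup.zpowers (F' k), fun hd => ?_, ?_⟩
      · have := hidx (Subgroup.zpowers (F' k)) p (by rw [Nat.card_zpowers, hord])
        rcases hmem with rfl | rfl | rfl <;> omega
      · intro u w hu hw
        obtain ⟨K, hK⟩ := hπ (F' k)
        exact SylMult.commute_of_cyclic π hπk (a := K) (by rwa [hK]) (by rwa [hK])
    · refine ⟨⊥, fun hd => hpd ?_, fun u w hu _ => ?_⟩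
      · rwa [Subgroup.index_bot, hcard] at hd
      · exact (Subgroup.mem_center_iff.mp (hπk (MonoidHom.mem_ker.mpr (Subgroup.mem_bot.mp hu))) w).symm

end Cfsg.Agent.JankoThree.Mult
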